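import Cfsg.Agent.Known.OrthTwoGen.Rel

/-!
# Elements of `Ω` attached to hyperbolic pairs

The dilation of a pair by a square, the exchange of two pairs, an element of order three on two pairs, the
cycle of a sequence of pairs and the flip of a pair compensated by a reflection.
-/

set_option autoImplicit false
set_option linter.style.haveILetI false

namespace Cfsg.Lib.OrthTwoGen

open Matrix Cfsg.Lib.Classical Cfsg.Lib.Classical.Refl

universe u

variable {F : Type u} [Field F] {ι : Type} [Fintype ι] [DecidableEq ι] {Q : QuadraticForm F (ι → F)}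

set_option quotPrecheck false
local notation "B" => QuadraticMap.polar (⇑Q)

/-- Pairs of hyperbolic pairs. -/
structure Pair4 (Q : QuadraticForm F (ι → F)) (a a' b b' : ι → F) : Prop where
  qa : Q a = 0
  qa' : Q a' = 0
  qb : Q b = 0
  qb' : Q b' = 0
  aa' : QuadraticMap.polar (⇑Q) a a' = 1
  bb' : QuadraticMap.polar (⇑Q) b b' = 1
  ab : QuadraticMap.polar (⇑Q) a b = 0
  ab' : QuadraticMap.polar (⇑Q) a b' = 0
  a'b : QuadraticMap.polar (⇑Q) a' b = 0
  a'b' : QuadraticMap.polar (⇑Q) a' b' = 0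

theorem polar_self_zero {x : ι → F} (hx : Q x = 0) : B x x = 0 := by
  rw [QuadraticMap.polar_self, hx, smul_zero]

/-- Agreement on two pairs and on their common orthogonal is equality. -/
theorem Pair4.ext {a a' b b' : ι → F} (P : Pair4 Q a a' b b') {g h : Cfsg.isometryGroup F (⇑Q)}
    (h1 : mat Q g *ᵥ a = mat Q h *ᵥ a) (h2 : mat Q g *ᵥ a' = mat Q h *ᵥ a')
    (h3 : mat Q g *ᵥ b = mat Q h *ᵥ b) (h4 : mat Q g *ᵥ b' = mat Q h *ᵥ b')
    (h5 : ∀ x, B a x = 0 → B a' x = 0 → B b x = 0 → B b' x = 0 → mat Q g *ᵥ x = mat Q h *ᵥ x) : g = h := by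
  refine ext_mulVec Q fun x => ?_
  set y := x - B a' x • a - B a x • a' - B b' x • b - B b x • b' with hy
  have e : x = B a' x • a + B a x • a' + B b' x • b + B b x • b' + y := by rw [hy]; abel
  have p1 := polar_self_zero P.qa
  have p2 := polar_self_zero P.qa'
  have p3 := polar_self_zero P.qb
  have p4 := polar_self_zero P.qb'
  have hy5 := h5 y
    (by simp [hy, QuadraticMap.polar_sub_right, QuadraticMap.polar_smul_right, p1, P.aa', P.ab, P.ab'])
    (by simp [hy, QuadraticMap.polar_sub_right, QuadraticMap.polar_smul_right, p2, P.a'b, P.a'b',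
      QuadraticMap.polar_comm (⇑Q) a' a, P.aa'])
    (by simp [hy, QuadraticMap.polar_sub_right, QuadraticMap.polar_smul_right, p3, P.bb',
      QuadraticMap.polar_comm (⇑Q) b a, P.ab, QuadraticMap.polar_comm (⇑Q) b a', P.a'b])
    (by simp [hy, QuadraticMap.polar_sub_right, QuadraticMap.polar_smul_right, p4,
      QuadraticMap.polar_comm (⇑Q) b' a, P.ab', QuadraticMap.polar_comm (⇑Q) b' a', P.a'b',
      QuadraticMap.polar_comm (⇑Q) b' b, P.bb'])
  rw [e]
  simp only [Matrix.mulVec_add, Matrix.mulVec_smul, h1, h2, h3, h4, hy5]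

theorem mat_one (x : ι → F) : mat Q (1 : Cfsg.isometryGroup F (⇑Q)) *ᵥ x = x := Matrix.one_mulVec x

theorem mat_mul (g h : Cfsg.isometryGroup F (⇑Q)) (x : ι → F) :
    mat Q (g * h) *ᵥ x = mat Q g *ᵥ (mat Q h *ᵥ x) := mulVec_mul Q g h x

theorem mat_refl (v : ι → F) (hv : Q v ≠ 0) (x : ι → F) :
    mat Q (refl Q v hv) *ᵥ x = x - ((Q v)⁻¹ * B v x) • v := by
  rw [mat, coe_refl, mulVec_eq]

theorem mat_inv_of {g : Cfsg.isometryGroup F (⇑Q)} {x y : ι → F} (h : mat Q g *ᵥ x = y) :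
    mat Q g⁻¹ *ᵥ y = x := by rw [← h, mulVec_inv_cancel]

theorem mat_pow_eigen {g : Cfsg.isometryGroup F (⇑Q)} {x : ι → F} {s : F} (h : mat Q g *ᵥ x = s • x) :
    ∀ n : ℕ, mat Q (g ^ n) *ᵥ x = s ^ n • x := by
  intro n
  induction n with
  | zero => rw [pow_zero, mat_one, pow_zero, one_smul]
  | succ n ih => rw [pow_succ, mat_mul, h, Matrix.mulVec_smul, ih, smul_smul, pow_succ, mul_comm]

variable [Finite F] (hQ : (QuadraticMap.polarBilin Q).Nondegenerate)

include hQ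

/-- Two reflections of one class multiply into `Ω`. -/
theorem refl_pair_mem {x y : ι → F} (hx : Q x ≠ 0) (hy : Q y ≠ 0) (h : IsSquare (Q x * Q y)) :
    refl Q x hx * refl Q y hy ∈ Cfsg.Omega F (⇑Q) := by
  refine (QuotientGroup.eq_one_iff _).mp ?_
  show Abelianization.of (refl Q x hx * refl Q y hy) = 1
  rw [map_mul, refl_same_class Q hQ Abelianization.of hx hy h, ← map_mul, refl_mul_self, map_one]

/-- Dilation of a pair by a square. -/
theorem exists_dil {a a' : ι → F} (ha : Q a = 0) (ha' : Q a' = 0) (haa' : B a a' = 1) {μ : F} (hμ : μ ≠ 0) :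
    ∃ g ∈ Cfsg.Omega F (⇑Q), mat Q g *ᵥ a = (μ * μ) • a ∧ mat Q g *ᵥ a' = (μ * μ)⁻¹ • a' ∧
      ∀ x, B a x = 0 → B a' x = 0 → mat Q g *ᵥ x = x := by
  have hs : μ * μ ≠ 0 := mul_ne_zero hμ hμ
  have q1 : Q (a - (1 : F) • a') = -1 := by
    rw [sub_eq_add_neg, ← neg_smul, WittQuad.val_smul_add, ha, ha', haa']; ring
  have q2 : Q (a - (μ * μ) • a') = -(μ * μ) := by
    rw [sub_eq_add_neg, ← neg_smul, WittQuad.val_smul_add, ha, ha', haa']; ring
  have h1 : Q (a - (1 : F) • a') ≠ 0 := by rw [q1]; exact neg_ne_zero.2 one_ne_zero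
  have h2 : Q (a - (μ * μ) • a') ≠ 0 := by rw [q2]; exact neg_ne_zero.2 hs
  have p : ∀ s x, B (a - s • a') x = B a x - s * B a' x := fun s x => by
    rw [QuadraticMap.polar_sub_left, QuadraticMap.polar_smul_left, smul_eq_mul]
  have haa : B a a = 0 := polar_self_zero ha
  have hbb : B a' a' = 0 := polar_self_zero ha'
  have hba : B a' a = 1 := by rw [QuadraticMap.polar_comm]; exact haa'
  refine ⟨refl Q _ h1 * refl Q _ h2, refl_pair_mem hQ h1 h2 ⟨μ, by rw [q1, q2]; ring⟩, ?_, ?_,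
    fun x hx hx' => ?_⟩
  · rw [mat_mul, mat_refl, mat_refl, p, p, q1, q2]
    simp only [QuadraticMap.polar_sub_right, QuadraticMap.polar_smul_right, haa, haa', hba, hbb, smul_eq_mul]
    match_scalars <;> field_simp <;> ring
  · rw [mat_mul, mat_refl, mat_refl, p, p, q1, q2]
    simp only [QuadraticMap.polar_sub_right, QuadraticMap.polar_smul_right, haa, haa', hba, hbb, smul_eq_mul]
    match_scalars <;> field_simp <;> ring
  · rw [mat_mul, mat_refl, mat_refl, p, p, hx, hx']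
    simp [hx, hx']

/-- The flip of a pair with a reflection. -/
theorem exists_flip {a a' v : ι → F} (ha : Q a = 0) (ha' : Q a' = 0) (haa' : B a a' = 1) (hv : Q v ≠ 0)
    (hva : B a v = 0) (hva' : B a' v = 0) :
    ∃ g ∈ Cfsg.Omega F (⇑Q), mat Q g *ᵥ a = (-Q v) • a' ∧ mat Q g *ᵥ a' = (-(Q v)⁻¹) • a ∧
      ∀ x, B a x = 0 → B a' x = 0 → mat Q g *ᵥ x = x - ((Q v)⁻¹ * B v x) • v := by
  have q1 : Q (a + Q v • a') = Q v := by rw [WittQuad.val_smul_add, ha, ha', haa']; ring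
  have h1 : Q (a + Q v • a') ≠ 0 := by rwa [q1]
  have haa : B a a = 0 := polar_self_zero ha
  have hbb : B a' a' = 0 := polar_self_zero ha'
  have hba : B a' a = 1 := by rw [QuadraticMap.polar_comm]; exact haa'
  have hav : B v a = 0 := by rw [QuadraticMap.polar_comm]; exact hva
  have hav' : B v a' = 0 := by rw [QuadraticMap.polar_comm]; exact hva'
  refine ⟨refl Q _ h1 * refl Q v hv, refl_pair_mem hQ h1 hv ⟨Q v, by rw [q1]⟩, ?_, ?_, fun x hx hx' => ?_⟩
  · rw [mat_mul, mat_refl v hv, hav, mat_refl, q1]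
    simp only [mul_zero, zero_smul, sub_zero, QuadraticMap.polar_add_left, QuadraticMap.polar_smul_left, haa, hba,
      smul_eq_mul]
    match_scalars <;> field_simp <;> ring
  · rw [mat_mul, mat_refl v hv, hav', mat_refl, q1]
    simp only [mul_zero, zero_smul, sub_zero, QuadraticMap.polar_add_left, QuadraticMap.polar_smul_left, haa', hbb,
      smul_eq_mul]
    match_scalars <;> field_simp <;> ring
  · rw [mat_mul, mat_refl v hv, mat_refl, q1]
    have h0 : B (a + Q v • a') (x - ((Q v)⁻¹ * B v x) • v) = 0 := by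
      simp [QuadraticMap.polar_add_left, QuadraticMap.polar_smul_left, QuadraticMap.polar_sub_right,
        QuadraticMap.polar_smul_right, hx, hx', hva, hva']
    rw [h0, mul_zero, zero_smul, sub_zero]

variable (hn : 5 ≤ Fintype.card ι)

include hn

omit hQ hn in
theorem Pair4.symm {a a' b b' : ι → F} (P : Pair4 Q a a' b b') : Pair4 Q b b' a a' :=
  ⟨P.qb, P.qb', P.qa, P.qa', P.bb', P.aa', by rw [QuadraticMap.polar_comm]; exact P.ab,
    by rw [QuadraticMap.polar_comm]; exact P.a'b, by rw [QuadraticMap.polar_comm]; exact P.ab',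
    by rw [QuadraticMap.polar_comm]; exact P.a'b'⟩

/-- The root element of two pairs. -/
theorem exists_root {a a' b b' : ι → F} (P : Pair4 Q a a' b b') (x : F) :
    ∃ g ∈ Cfsg.Omega F (⇑Q), mat Q g *ᵥ a = a ∧ mat Q g *ᵥ b = b - x • a ∧ mat Q g *ᵥ a' = a' + x • b' ∧
      mat Q g *ᵥ b' = b' ∧ ∀ y, B a y = 0 → B b' y = 0 → mat Q g *ᵥ y = y := by
  have h0 : B a (x • b') = 0 := by rw [QuadraticMap.polar_smul_right, P.ab', smul_zero]
  refine ⟨siegelG Q P.qa h0, siegelG_mem_omega Q hQ hn P.qa h0, ?_, ?_, ?_, ?_, fun y hy hy' => ?_⟩ <;>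
    rw [mat_siegelG]
  · simp [siegelMap, polar_self_zero P.qa, QuadraticMap.polar_comm (⇑Q) b' a, P.ab']
  · simp [siegelMap, P.ab, QuadraticMap.polar_comm (⇑Q) b' b, P.bb', sub_eq_add_neg]
  · simp [siegelMap, P.aa', QuadraticMap.polar_comm (⇑Q) b' a', P.a'b', P.qb', QuadraticMap.map_smul]
  · simp [siegelMap, P.ab', polar_self_zero P.qb']
  · simp [siegelMap, hy, hy']

/-- The exchange of two pairs. -/
theorem exists_swap {a a' b b' : ι → F} (P : Pair4 Q a a' b b') :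
    ∃ g ∈ Cfsg.Omega F (⇑Q), mat Q g *ᵥ a = b ∧ mat Q g *ᵥ b = -a ∧ mat Q g *ᵥ a' = b' ∧
      mat Q g *ᵥ b' = -a' ∧ ∀ y, B a y = 0 → B a' y = 0 → B b y = 0 → B b' y = 0 → mat Q g *ᵥ y = y := by
  obtain ⟨u, hu, u1, u2, u3, u4, u5⟩ := exists_root hQ hn P 1
  obtain ⟨l, hl, l1, l2, l3, l4, l5⟩ := exists_root hQ hn P.symm (-1)
  refine ⟨u * l * u, mul_mem (mul_mem hu hl) hu, ?_, ?_, ?_, ?_, fun y h1 h2 h3 h4 => ?_⟩
  · rw [mat_mul, mat_mul, u1, l2, Matrix.mulVec_sub, Matrix.mulVec_smul, u1, u2]; module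
  · rw [mat_mul, mat_mul, u2, Matrix.mulVec_sub, Matrix.mulVec_smul, l1, l2, Matrix.mulVec_sub,
      Matrix.mulVec_smul, Matrix.mulVec_sub, Matrix.mulVec_smul, u1, u2]
    module
  · rw [mat_mul, mat_mul, u3, Matrix.mulVec_add, Matrix.mulVec_smul, l4, l3, Matrix.mulVec_add,
      Matrix.mulVec_smul, Matrix.mulVec_add, Matrix.mulVec_smul, u3, u4]
    module
  · rw [mat_mul, mat_mul, u4, l3, Matrix.mulVec_add, Matrix.mulVec_smul, u3, u4]; module
  · rw [mat_mul, mat_mul, u5 y h1 h4, l5 y h3 h2, u5 y h1 h4]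

/-- An element of order three on two pairs in characteristic two, of order four otherwise. -/
theorem exists_mix {a a' b b' : ι → F} (P : Pair4 Q a a' b b') :
    ∃ g ∈ Cfsg.Omega F (⇑Q), (∃ α γ : F, γ ≠ 0 ∧ mat Q g *ᵥ a = α • a + γ • b) ∧
      (∀ y, B a y = 0 → B a' y = 0 → B b y = 0 → B b' y = 0 → mat Q g *ᵥ y = y) ∧
      ∃ N : ℕ, (N : F) ≠ 0 ∧ g ^ N = 1 := by
  by_cases h2 : (2 : F) = 0
  · have hdbl : ∀ v : ι → F, v + v = 0 := fun v => by rw [← two_smul F v, h2, zero_smul]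
    have hneg : ∀ v : ι → F, -v = v := fun v => by rw [← add_eq_zero_iff_neg_eq]; exact hdbl v
    obtain ⟨u, hu, u1, u2, u3, u4, u5⟩ := exists_root hQ hn P 1
    obtain ⟨l, hl, l1, l2, l3, l4, l5⟩ := exists_root hQ hn P.symm 1
    simp only [one_smul, sub_eq_add_neg, hneg] at u2 u3 l2 l3
    have w1 : mat Q (l * u) *ᵥ a = a + b := by rw [mat_mul, u1, l2]
    have w2 : mat Q (l * u) *ᵥ b = a := by
      rw [mat_mul, u2, Matrix.mulVec_add, l1, l2, show b + (a + b) = a + (b + b) by abel, hdbl, add_zero]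
    have w3 : mat Q (l * u) *ᵥ a' = b' := by
      rw [mat_mul, u3, Matrix.mulVec_add, l4, l3, show a' + (b' + a') = b' + (a' + a') by abel, hdbl, add_zero]
    have w4 : mat Q (l * u) *ᵥ b' = b' + a' := by rw [mat_mul, u4, l3]
    have w5 : ∀ y, B a y = 0 → B a' y = 0 → B b y = 0 → B b' y = 0 → mat Q (l * u) *ᵥ y = y :=
      fun y y1 y2 y3 y4 => by rw [mat_mul, u5 y y1 y4, l5 y y3 y2]
    refine ⟨l * u, mul_mem hl hu, ⟨1, 1, one_ne_zero, by rw [w1, one_smul, one_smul]⟩, w5, 3, ?_, ?_⟩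
    · rw [show ((3 : ℕ) : F) = 2 + 1 by norm_num, h2, zero_add]; exact one_ne_zero
    · rw [pow_succ, pow_two]
      refine P.ext ?_ ?_ ?_ ?_ fun y y1 y2 y3 y4 => ?_ <;> simp only [mat_mul (g := l * u * (l * u)), mat_one]
      · rw [w1, mat_mul (g := l * u), Matrix.mulVec_add, w1, w2, show a + b + a = b + (a + a) by abel, hdbl,
          add_zero, w2]
      · rw [w3, mat_mul (g := l * u), w4, Matrix.mulVec_add, w4, w3, show b' + a' + b' = a' + (b' + b') by abel,
          hdbl, add_zero]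
      · rw [w2, mat_mul (g := l * u), w1, Matrix.mulVec_add, w1, w2, show a + b + a = b + (a + a) by abel, hdbl,
          add_zero]
      · rw [w4, mat_mul (g := l * u), Matrix.mulVec_add, w4, w3, show b' + a' + b' = a' + (b' + b') by abel, hdbl,
          add_zero, w3]
      · rw [w5 y y1 y2 y3 y4, mat_mul (g := l * u), w5 y y1 y2 y3 y4, w5 y y1 y2 y3 y4]
  · obtain ⟨g, hg, g1, g2, g3, g4, g5⟩ := exists_swap hQ hn P
    refine ⟨g, hg, ⟨0, 1, one_ne_zero, by rw [g1, zero_smul, one_smul, zero_add]⟩, g5, 4, ?_, ?_⟩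
    · rw [show ((4 : ℕ) : F) = 2 * 2 by norm_num]; exact mul_ne_zero h2 h2
    · rw [pow_succ, pow_succ, pow_two]
      refine P.ext ?_ ?_ ?_ ?_ fun y y1 y2 y3 y4 => ?_ <;> simp only [mat_mul, mat_one]
      · simp [g1, g2, Matrix.mulVec_neg]
      · simp [g3, g4, Matrix.mulVec_neg]
      · simp [g1, g2, Matrix.mulVec_neg]
      · simp [g3, g4, Matrix.mulVec_neg]
      · simp [g5 y y1 y2 y3 y4]

/-- The cycle of the first pairs of a sequence. -/
theorem exists_cycle {m : ℕ} {e f : ℕ → ι → F} (hP : ∀ i k, i < m → k < m → i ≠ k → Pair4 Q (e i) (f i) (e k) (f k)) :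
    ∀ j, j < m → ∃ g ∈ Cfsg.Omega F (⇑Q), (∀ i < j, mat Q g *ᵥ e i = e (i + 1) ∧ mat Q g *ᵥ f i = f (i + 1)) ∧
      (∃ s : F, s ≠ 0 ∧ mat Q g *ᵥ e j = s • e 0 ∧ mat Q g *ᵥ f j = s⁻¹ • f 0) ∧
      ∀ x, (∀ i ≤ j, B (e i) x = 0 ∧ B (f i) x = 0) → mat Q g *ᵥ x = x := by
  intro j
  induction j with
  | zero =>
    exact fun _ => ⟨1, one_mem _, fun i hi => absurd hi (Nat.not_lt_zero i),
      ⟨1, one_ne_zero, by rw [mat_one, one_smul], by rw [mat_one, inv_one, one_smul]⟩, fun x _ => mat_one x⟩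
  | succ j ih =>
    intro hj
    obtain ⟨g, hg, g1, ⟨s, hs, g2, g3⟩, g4⟩ := ih (by omega)
    obtain ⟨w, hw, w1, w2, w3, w4, w5⟩ := exists_swap hQ hn (hP j (j + 1) (by omega) hj (by omega))
    have hfix : ∀ i ≤ j, ∀ k, k < m → k ≠ i →
        B (e i) (e k) = 0 ∧ B (f i) (e k) = 0 ∧ B (e i) (f k) = 0 ∧ B (f i) (f k) = 0 := fun i hi k hk hki =>
      have P := hP i k (by omega) hk (Ne.symm hki)
      ⟨P.ab, P.a'b, P.ab', P.a'b'⟩
    refine ⟨g * w, mul_mem hg hw, fun i hi => ?_, ⟨-s, neg_ne_zero.2 hs, ?_, ?_⟩, fun x hx => ?_⟩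
    · rcases Nat.lt_succ_iff_lt_or_eq.1 hi with h | rfl
      · have P := hP j i (by omega) (by omega) (by omega)
        have P' := hP (j + 1) i hj (by omega) (by omega)
        constructor
        · rw [mat_mul, w5 _ P.ab P.a'b P'.ab P'.a'b, (g1 i h).1]
        · rw [mat_mul, w5 _ P.ab' P.a'b' P'.ab' P'.a'b', (g1 i h).2]
      · constructor
        · rw [mat_mul, w1, g4 _ fun k hk => ⟨(hfix k hk _ hj (by omega)).1, (hfix k hk _ hj (by omega)).2.1⟩]
        · rw [mat_mul, w3, g4 _ fun k hk => ⟨(hfix k hk _ hj (by omega)).2.2.1, (hfix k hk _ hj (by omega)).2.2.2⟩]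
    · rw [mat_mul, w2, Matrix.mulVec_neg, g2, neg_smul]
    · rw [mat_mul, w4, Matrix.mulVec_neg, g3, inv_neg, neg_smul]
    · rw [mat_mul, w5 x (hx j (by omega)).1 (hx j (by omega)).2 (hx (j + 1) le_rfl).1 (hx (j + 1) le_rfl).2,
        g4 x fun i hi => hx i (by omega)]

end Cfsg.Lib.OrthTwoGen
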