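import Cfsg.Agent.Classical.Orth.ParabolicMax

/-!
# Siegel transformations inside a subgroup

For a singular `u` the vectors `z` with all `S(u, x z)` in the subgroup form a subspace that is stable under
the stabiliser of `u`; two non-orthogonal singular vectors with full root groups give all of `Ω`.
-/

set_option autoImplicit false
set_option linter.style.haveILetI false

namespace Cfsg.Lib.OrthTwoGen

open Matrix Cfsg.Lib.Classical Cfsg.Lib.Classical.Refl

universe u

variable {F : Type u} [Field F] {ι : Type} [Fintype ι] [DecidableEq ι] {Q : QuadraticForm F (ι → F)}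
  {K : Subgroup (Cfsg.isometryGroup F (⇑Q))}

/-- The Siegel transformation of `u`, `z` is induced by an element of the subgroup. -/
def Sg (K : Subgroup (Cfsg.isometryGroup F (⇑Q))) (u z : ι → F) : Prop := InR Q K (siegelMap Q u z)

/-- All multiples of `z` give Siegel transformations in the subgroup. -/
def Rt (K : Subgroup (Cfsg.isometryGroup F (⇑Q))) (u z : ι → F) : Prop := ∀ x : F, Sg K u (x • z)

theorem siegel_smul_left (s : F) (u z x : ι → F) :
    siegelMap Q (s • u) z x = siegelMap Q u (s • z) x := by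
  funext i
  simp only [siegelMap, QuadraticMap.polar_smul_left, QuadraticMap.map_smul, Pi.add_apply, Pi.smul_apply,
    smul_eq_mul]
  ring

theorem Sg.conj {u z : ι → F} (h : Sg K u z) {g : Cfsg.isometryGroup F (⇑Q)} (hg : g ∈ K) :
    Sg K (mat Q g *ᵥ u) (mat Q g *ᵥ z) := by
  obtain ⟨r, hr, hrx⟩ := h
  refine ⟨g * r * g⁻¹, mul_mem (mul_mem hg hr) (inv_mem hg), fun x => ?_⟩
  rw [mulVec_mul, mulVec_mul, hrx]
  change mat Q g *ᵥ siegelMap Q u z (mat Q g⁻¹ *ᵥ x) = _
  rw [siegelMap_conj, show mat Q g *ᵥ (mat Q g⁻¹ *ᵥ x) = x by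
    rw [← mulVec_mul, mul_inv_cancel]; exact Matrix.one_mulVec x]

theorem Sg.smul_left_iff {s : F} {u z : ι → F} : Sg K (s • u) z ↔ Sg K u (s • z) := by
  simp only [Sg, InR, siegel_smul_left]

theorem Sg.zero (u : ι → F) : Sg K u 0 :=
  ⟨1, one_mem _, fun x => by rw [siegel_zero]; exact Matrix.one_mulVec x⟩

theorem Sg.add {u z z' : ι → F} (hu : Q u = 0) (hz : QuadraticMap.polar (⇑Q) u z = 0)
    (hz' : QuadraticMap.polar (⇑Q) u z' = 0) (h : Sg K u z) (h' : Sg K u z') : Sg K u (z + z') := by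
  obtain ⟨r, hr, hrx⟩ := h
  obtain ⟨r', hr', hrx'⟩ := h'
  exact ⟨r * r', mul_mem hr hr', fun x => by rw [mulVec_mul, hrx', hrx, siegel_add Q hu hz hz']⟩

theorem Sg.neg {u z : ι → F} (hu : Q u = 0) (hz : QuadraticMap.polar (⇑Q) u z = 0) (h : Sg K u z) :
    Sg K u (-z) := by
  obtain ⟨r, hr, hrx⟩ := h
  refine ⟨r⁻¹, inv_mem hr, fun x => ?_⟩
  have hx : siegelMap Q u z (mat Q r⁻¹ *ᵥ x) = x := by
    rw [← hrx, mat, ← mulVec_mul, mul_inv_cancel]; exact Matrix.one_mulVec x
  conv_rhs => rw [← hx]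
  rw [siegel_add Q hu (by rw [QuadraticMap.polar_neg_right, hz, neg_zero]) hz, neg_add_cancel, siegel_zero]

theorem Sg.swap {u z : ι → F} (hu : Q u = 0) (hz : Q z = 0) (h : Sg K u z) : Sg K z (-u) := by
  obtain ⟨r, hr, hrx⟩ := h
  refine ⟨r, hr, fun x => ?_⟩
  rw [hrx]
  funext i
  simp only [siegelMap, hz, QuadraticMap.map_neg, hu, QuadraticMap.polar_neg_left, Pi.add_apply, Pi.smul_apply,
    Pi.neg_apply, smul_eq_mul]
  ring

theorem Rt.conj {u z : ι → F} (h : Rt K u z) {g : Cfsg.isometryGroup F (⇑Q)} (hg : g ∈ K) :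
    Rt K (mat Q g *ᵥ u) (mat Q g *ᵥ z) := fun x => by
  have := (h x).conj hg
  rwa [Matrix.mulVec_smul] at this

theorem Rt.smul {u z : ι → F} (h : Rt K u z) (a : F) : Rt K u (a • z) := fun x => by
  rw [smul_smul]; exact h _

theorem Rt.smul_left {u z : ι → F} (h : Rt K u z) (a : F) : Rt K (a • u) z := fun x => by
  rw [Sg.smul_left_iff, smul_smul]; exact h _

theorem Rt.of_smul_left {u z : ι → F} {a : F} (ha : a ≠ 0) (h : Rt K (a • u) z) : Rt K u z := by
  have := h.smul_left a⁻¹
  rwa [smul_smul, inv_mul_cancel₀ ha, one_smul] at this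

theorem Rt.swap {u z : ι → F} (hu : Q u = 0) (hz : Q z = 0) (h : Rt K u z) : Rt K z u := fun x => by
  have h1 := (h (-x)).swap hu (by rw [QuadraticMap.map_smul, hz, smul_zero])
  rw [Sg.smul_left_iff, smul_neg, neg_smul, neg_neg] at h1
  exact h1

variable (K)

/-- The subspace of the directions of `u` whose root groups lie in the subgroup. -/
def dirs (u : ι → F) (hu : Q u = 0) : Submodule F (ι → F) where
  carrier := {z | QuadraticMap.polar (⇑Q) u z = 0 ∧ Rt K u z}
  zero_mem' := ⟨QuadraticMap.polar_zero_right Q u, fun x => by rw [smul_zero]; exact Sg.zero u⟩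
  add_mem' {a b} ha hb := ⟨by rw [QuadraticMap.polar_add_right, ha.1, hb.1, add_zero], fun x => by
    rw [smul_add]
    exact Sg.add hu (by rw [QuadraticMap.polar_smul_right, ha.1, smul_zero])
      (by rw [QuadraticMap.polar_smul_right, hb.1, smul_zero]) (ha.2 x) (hb.2 x)⟩
  smul_mem' c a ha := ⟨by rw [QuadraticMap.polar_smul_right, ha.1, smul_zero], ha.2.smul c⟩

variable {K}

theorem mem_dirs {u : ι → F} {hu : Q u = 0} {z : ι → F} :
    z ∈ dirs K u hu ↔ QuadraticMap.polar (⇑Q) u z = 0 ∧ Rt K u z := Iff.rfl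

theorem self_mem_dirs {u : ι → F} (hu : Q u = 0) : u ∈ dirs K u hu := by
  have huu : QuadraticMap.polar (⇑Q) u u = 0 := by rw [QuadraticMap.polar_self, hu, smul_zero]
  refine ⟨huu, fun x => ⟨1, one_mem _, fun y => ?_⟩⟩
  rw [show ((1 : Cfsg.isometryGroup F (⇑Q)) : Matrix.GeneralLinearGroup ι F).val *ᵥ y = y from
    Matrix.one_mulVec y]
  funext i
  simp only [siegelMap, QuadraticMap.map_smul, hu, QuadraticMap.polar_smul_left, Pi.add_apply, Pi.smul_apply,
    smul_eq_mul]
  ring

theorem dirs_map {u : ι → F} {hu : Q u = 0} {g : Cfsg.isometryGroup F (⇑Q)} (hg : g ∈ K)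
    (hgu : mat Q g *ᵥ u = u) {z : ι → F} (hz : z ∈ dirs K u hu) : mat Q g *ᵥ z ∈ dirs K u hu := by
  refine ⟨?_, ?_⟩
  · have := polar_act Q g u z
    rw [hgu] at this
    rw [this, hz.1]
  · have := hz.2.conj hg
    rwa [hgu] at this

/-- The basic move: a Siegel transformation fixing `u` moves the directions of `u`. -/
theorem dirs_move {u : ι → F} {hu : Q u = 0} {z p w : ι → F} (hz : z ∈ dirs K u hu) (h : Sg K p w)
    (hpu : QuadraticMap.polar (⇑Q) p u = 0) (hwu : QuadraticMap.polar (⇑Q) w u = 0) :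
    QuadraticMap.polar (⇑Q) p z • w +
      (-QuadraticMap.polar (⇑Q) w z - Q w * QuadraticMap.polar (⇑Q) p z) • p ∈ dirs K u hu := by
  obtain ⟨r, hr, hrx⟩ := h
  have hru : mat Q r *ᵥ u = u := by
    rw [mat, hrx]; simp [siegelMap, hpu, hwu]
  have h1 := Submodule.sub_mem _ (dirs_map hr hru hz) hz
  rw [mat, hrx, siegelMap, add_assoc, add_sub_cancel_left] at h1
  exact h1

theorem mem_centres {u : ι → F} (hu : Q u = 0)
    (h : ∀ z, QuadraticMap.polar (⇑Q) u z = 0 → z ∈ dirs K u hu) : u ∈ sCentres Q K := by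
  refine ⟨hu, fun z hz => ?_⟩
  obtain ⟨r, hr, hrx⟩ := (h z hz).2 1
  rw [one_smul] at hrx
  convert hr using 1
  exact ext_mulVec Q fun x => by rw [mat_siegelG, mat, hrx]

theorem centre_step {u w x : ι → F} (hu : u ∈ sCentres Q K) (hw : w ∈ sCentres Q K)
    (huw : QuadraticMap.polar (⇑Q) u w ≠ 0) (hx : Q x = 0) (hux : QuadraticMap.polar (⇑Q) u x ≠ 0) :
    x ∈ sCentres Q K := by
  obtain ⟨hu0, hu⟩ := hu
  set w' := (QuadraticMap.polar (⇑Q) u w)⁻¹ • w with hw'
  set x' := (QuadraticMap.polar (⇑Q) u x)⁻¹ • x with hx'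
  have hw'C : w' ∈ sCentres Q K := sCentres_smul hw _
  have huw' : QuadraticMap.polar (⇑Q) u w' = 1 := by
    rw [hw', QuadraticMap.polar_smul_right, smul_eq_mul, inv_mul_cancel₀ huw]
  have hux' : QuadraticMap.polar (⇑Q) u x' = 1 := by
    rw [hx', QuadraticMap.polar_smul_right, smul_eq_mul, inv_mul_cancel₀ hux]
  have hQw : Q w' = 0 := hw'C.1
  have hQx : Q x' = 0 := by rw [hx', QuadraticMap.map_smul, hx, smul_zero]
  have hz : QuadraticMap.polar (⇑Q) u (x' - w') = 0 := by
    rw [QuadraticMap.polar_sub_right, hux', huw', sub_self]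
  have e : mat Q (siegelG Q hu0 hz) *ᵥ w' = x' := by
    rw [mat_siegelG]
    have h1 : Q (x' - w') = -QuadraticMap.polar (⇑Q) x' w' := by
      rw [sub_eq_add_neg, QuadraticMap.map_add (f := Q), QuadraticMap.map_neg, QuadraticMap.polar_neg_right,
        hQx, hQw]
      ring
    rw [siegelMap, huw', h1, QuadraticMap.polar_sub_left, QuadraticMap.polar_self, hQw, smul_zero]
    simp
  have h2 := sCentres_smul (e ▸ sCentres_map hw'C (hu _ hz)) (QuadraticMap.polar (⇑Q) u x)
  rwa [hx', smul_smul, mul_inv_cancel₀ hux, one_smul] at h2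

/-- Two non-orthogonal centres give the whole of `Ω`. -/
theorem omega_le [Finite F] (hQ : (QuadraticMap.polarBilin Q).Nondegenerate) (hn : 5 ≤ Fintype.card ι)
    {e f : ι → F} (he : e ∈ sCentres Q K) (hf : f ∈ sCentres Q K) (hef : QuadraticMap.polar (⇑Q) e f ≠ 0) :
    Cfsg.Omega F (⇑Q) ≤ K := by
  have hfe : QuadraticMap.polar (⇑Q) f e ≠ 0 := by rwa [QuadraticMap.polar_comm]
  have hall : ∀ x, Q x = 0 → x ∈ sCentres Q K := by
    intro x hx
    by_cases h1 : QuadraticMap.polar (⇑Q) e x = 0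
    swap
    · exact centre_step he hf hef hx h1
    by_cases h2 : QuadraticMap.polar (⇑Q) f x = 0
    swap
    · exact centre_step hf he hfe hx h2
    by_cases hx0 : x = 0
    · subst hx0
      simpa using sCentres_smul he (0 : F)
    obtain ⟨z, hz⟩ : ∃ z, QuadraticMap.polar (⇑Q) x z ≠ 0 := by
      by_contra h
      push Not at h
      exact hx0 (hQ.1 x h)
    set d := QuadraticMap.polar (⇑Q) e f
    set z' := z - (QuadraticMap.polar (⇑Q) e z / d) • f with hz'
    have hez' : QuadraticMap.polar (⇑Q) e z' = 0 := by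
      rw [hz', QuadraticMap.polar_sub_right, QuadraticMap.polar_smul_right, smul_eq_mul,
        div_mul_cancel₀ _ hef, sub_self]
    have hxz' : QuadraticMap.polar (⇑Q) x z' ≠ 0 := by
      rw [hz', QuadraticMap.polar_sub_right, QuadraticMap.polar_smul_right, QuadraticMap.polar_comm (⇑Q) x f,
        h2, smul_zero, sub_zero]
      exact hz
    obtain ⟨he0, heK⟩ := he
    have hy : mat Q (siegelG Q he0 hez') *ᵥ (d⁻¹ • f) ∈ sCentres Q K :=
      sCentres_map (sCentres_smul hf _) (heK _ hez')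
    have hee : QuadraticMap.polar (⇑Q) e e = 0 := by rw [QuadraticMap.polar_self, he0, smul_zero]
    refine centre_step hy ⟨he0, heK⟩ ?_ hx ?_
    · rw [QuadraticMap.polar_comm, mat_siegelG, siegelMap, QuadraticMap.polar_add_right,
        QuadraticMap.polar_add_right, QuadraticMap.polar_smul_right, QuadraticMap.polar_smul_right,
        QuadraticMap.polar_smul_right, hez', hee, smul_zero, smul_zero, add_zero, add_zero, smul_eq_mul,
        inv_mul_cancel₀ hef]
      exact one_ne_zero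
    · rw [mat_siegelG, siegelMap, QuadraticMap.polar_add_left, QuadraticMap.polar_add_left,
        QuadraticMap.polar_smul_left, QuadraticMap.polar_smul_left, QuadraticMap.polar_smul_left, h1, h2,
        smul_zero, smul_zero, zero_add, add_zero, QuadraticMap.polar_smul_right, smul_eq_mul, smul_eq_mul,
        inv_mul_cancel₀ hef, one_mul, QuadraticMap.polar_comm]
      exact hxz'
  rw [omega_eq_closure_all Q hQ hn, Subgroup.closure_le]
  rintro g ⟨u, z, hu, huz, rfl⟩
  exact (hall u hu).2 z huz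

/-- Squares span the field additively. -/
theorem addSubgroup_eq_top [Finite F] {A : AddSubgroup F} {k : Fˣ} (hk : ∀ x : Fˣ, x ∈ Subgroup.zpowers k)
    (h : ∀ j : ℕ, (k : F) ^ (2 * j) ∈ A) : A = ⊤ := by
  have := Fintype.ofFinite F
  have hsq : ∀ x : F, x * x ∈ A := by
    intro x
    rcases eq_or_ne x 0 with rfl | hx
    · simp
    obtain ⟨j, hj⟩ := (mem_powers_iff_mem_zpowers (x := k)).2 (hk (Units.mk0 x hx))
    have e : x = (k : F) ^ j := by
      have := congrArg (fun u : Fˣ => (u : F)) hj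
      simpa using this.symm
    rw [e, ← pow_add, ← two_mul]
    exact h j
  refine eq_top_iff.2 fun x _ => ?_
  by_cases h2 : (2 : F) = 0
  · obtain ⟨y, hy⟩ := exists_sqrt_two h2 x
    exact hy ▸ hsq y
  · have e : x = ((x + 1) / 2) * ((x + 1) / 2) - ((x - 1) / 2) * ((x - 1) / 2) := by
      have h4 : (4 : F) ≠ 0 := by
        rw [show (4 : F) = 2 * 2 by norm_num]; exact mul_ne_zero h2 h2
      field_simp
      ring
    rw [e]
    exact sub_mem (hsq _) (hsq _)

end Cfsg.Lib.OrthTwoGen
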