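import Cfsg.Agent.Known.OrthTwoGen.Elements

/-!
# Two generators for `Ω`

A sequence of hyperbolic pairs with a small orthogonal part. The cycle of the pairs closed by a flip carries
the root group of the second pair along all `2m` isotropic vectors; a torus element gives the scalars and
mixes the two parities.
-/

set_option autoImplicit false
set_option linter.style.haveILetI false

namespace Cfsg.Lib.OrthTwoGen

open Matrix Cfsg.Lib.Classical Cfsg.Lib.Classical.Refl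

universe u

variable {F : Type u} [Field F] {ι : Type} [Fintype ι] [DecidableEq ι] {Q : QuadraticForm F (ι → F)}

set_option quotPrecheck false
local notation "B" => QuadraticMap.polar (⇑Q)

/-- Pairs with a small orthogonal part spanned by a vector and its mirror image. -/
structure Flip (Q : QuadraticForm F (ι → F)) (m : ℕ) where
  /-- first vectors -/
  e : ℕ → ι → F
  /-- second vectors -/
  f : ℕ → ι → F
  hqe : ∀ i < m, Q (e i) = 0
  hqf : ∀ i < m, Q (f i) = 0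
  hef : ∀ i < m, QuadraticMap.polar (⇑Q) (e i) (f i) = 1
  hP : ∀ i k, i < m → k < m → i ≠ k → Pair4 Q (e i) (f i) (e k) (f k)
  /-- the mirror -/
  v : ι → F
  /-- the vector of the second root -/
  α : ι → F
  hv : Q v ≠ 0
  hvP : ∀ i < m, QuadraticMap.polar (⇑Q) (e i) v = 0 ∧ QuadraticMap.polar (⇑Q) (f i) v = 0
  hαP : ∀ i < m, QuadraticMap.polar (⇑Q) (e i) α = 0 ∧ QuadraticMap.polar (⇑Q) (f i) α = 0
  hα : α ≠ 0
  hspan : ∀ x, (∀ i < m, QuadraticMap.polar (⇑Q) (e i) x = 0 ∧ QuadraticMap.polar (⇑Q) (f i) x = 0) →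
    x ∈ Submodule.span F {α, α - ((Q v)⁻¹ * QuadraticMap.polar (⇑Q) v α) • v}

namespace Flip

variable {m : ℕ} (D : Flip Q m)

/-- The mirror map. -/
def r (x : ι → F) : ι → F := x - ((Q D.v)⁻¹ * B D.v x) • D.v

theorem r_r (x : ι → F) : D.r (D.r x) = x := by
  have hv := D.hv
  simp only [r, QuadraticMap.polar_sub_right, QuadraticMap.polar_smul_right, QuadraticMap.polar_self, smul_eq_mul,
    nsmul_eq_mul, Nat.cast_ofNat]
  match_scalars <;> field_simp <;> ring

/-- The alternating sequence of the two vectors. -/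
def al (n : ℕ) : ι → F := if Even n then D.α else D.r D.α

theorem r_al (n : ℕ) : D.r (D.al n) = D.al (n + 1) := by
  by_cases h : Even n
  · rw [al, al, if_pos h, if_neg (by rw [Nat.even_add_one]; exact not_not.2 h)]
  · rw [al, al, if_neg h, if_pos (Nat.even_add_one.2 h), r_r]

theorem al_perp (n : ℕ) : ∀ i < m, B (D.e i) (D.al n) = 0 ∧ B (D.f i) (D.al n) = 0 := by
  intro i hi
  by_cases h : Even n
  · rw [al, if_pos h]; exact D.hαP i hi
  · rw [al, if_neg h]
    simp [r, QuadraticMap.polar_sub_right, QuadraticMap.polar_smul_right, (D.hαP i hi).1, (D.hαP i hi).2,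
      (D.hvP i hi).1, (D.hvP i hi).2]

theorem Q_r (x : ι → F) : Q (D.r x) = Q x := by
  have hv := D.hv
  rw [r, sub_eq_add_neg, ← neg_smul, WittQuad.val_smul_add, QuadraticMap.polar_comm (⇑Q) x D.v]
  field_simp
  ring

theorem Q_al (n : ℕ) : Q (D.al n) = Q D.α := by
  by_cases h : Even n
  · rw [al, if_pos h]
  · rw [al, if_neg h, D.Q_r]

theorem al_ne (n : ℕ) : D.al n ≠ 0 := by
  by_cases h : Even n
  · rw [al, if_pos h]; exact D.hα
  · rw [al, if_neg h]
    intro e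
    have := D.r_r D.α
    rw [e] at this
    exact D.hα (this.symm.trans (by simp [r]))

theorem perp_f {i k : ℕ} (hi : i < m) (hk : k < m) (h : i ≠ k) :
    B (D.e i) (D.e k) = 0 ∧ B (D.e i) (D.f k) = 0 ∧ B (D.f i) (D.e k) = 0 ∧ B (D.f i) (D.f k) = 0 :=
  ⟨(D.hP i k hi hk h).ab, (D.hP i k hi hk h).ab', (D.hP i k hi hk h).a'b, (D.hP i k hi hk h).a'b'⟩

variable [Finite F] (hQ : (QuadraticMap.polarBilin Q).Nondegenerate) (hn : 5 ≤ Fintype.card ι)
  {K : Subgroup (Cfsg.isometryGroup F (⇑Q))}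

include hQ hn

theorem exists_step (hm : 2 ≤ m) :
    ∃ c ∈ Cfsg.Omega F (⇑Q), (∀ i, i + 1 < m → mat Q c *ᵥ D.e i = D.e (i + 1) ∧ mat Q c *ᵥ D.f i = D.f (i + 1)) ∧
      (∃ a b : F, a ≠ 0 ∧ b ≠ 0 ∧ mat Q c *ᵥ D.e (m - 1) = a • D.f 0 ∧ mat Q c *ᵥ D.f (m - 1) = b • D.e 0) ∧
      ∀ n, mat Q c *ᵥ D.al n = D.al (n + 1) := by
  obtain ⟨g, hg, g1, ⟨s, hs, g2, g3⟩, g4⟩ := exists_cycle hQ hn D.hP (m - 1) (by omega)
  have h0 : 0 < m := by omega
  obtain ⟨h, hh, h1, h2, h3⟩ := exists_flip hQ (D.hqe 0 h0) (D.hqf 0 h0) (D.hef 0 h0) D.hv (D.hvP 0 h0).1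
    (D.hvP 0 h0).2
  refine ⟨h * g, mul_mem hh hg, fun i hi => ⟨?_, ?_⟩, ⟨s * -Q D.v, s⁻¹ * -(Q D.v)⁻¹, ?_, ?_, ?_, ?_⟩, fun n => ?_⟩
  · rw [mat_mul, (g1 i (by omega)).1, h3 _ (D.perp_f h0 hi (by omega)).1 (D.perp_f h0 hi (by omega)).2.2.1,
      QuadraticMap.polar_comm, (D.hvP _ hi).1, mul_zero, zero_smul, sub_zero]
  · rw [mat_mul, (g1 i (by omega)).2, h3 _ (D.perp_f h0 hi (by omega)).2.1 (D.perp_f h0 hi (by omega)).2.2.2,
      QuadraticMap.polar_comm, (D.hvP _ hi).2, mul_zero, zero_smul, sub_zero]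
  · exact mul_ne_zero hs (neg_ne_zero.2 D.hv)
  · exact mul_ne_zero (inv_ne_zero hs) (neg_ne_zero.2 (inv_ne_zero D.hv))
  · rw [mat_mul, g2, Matrix.mulVec_smul, h1, smul_smul]
  · rw [mat_mul, g3, Matrix.mulVec_smul, h2, smul_smul]
  · rw [mat_mul, g4 _ fun i hi => D.al_perp n i (by omega), h3 _ (D.al_perp n 0 h0).1 (D.al_perp n 0 h0).2,
      ← r_al]
    rfl

/-- The torus element, mixing the first pair with the pair `k`. -/
theorem exists_mixer {k : ℕ} (h0 : 0 < m) (hk : k < m) (hk0 : k ≠ 0) {μ : Fˣ} :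
    ∃ y ∈ Cfsg.Omega F (⇑Q),
      (∀ x, B (D.e 0) x = 0 → B (D.f 0) x = 0 → B (D.e k) x = 0 → B (D.f k) x = 0 → mat Q y *ᵥ x = x) ∧
      (∃ N : ℕ, (N : F) ≠ 0 ∧ y ^ N = 1) ∧
      ((μ : F) * μ = 1 ∨ mat Q y *ᵥ D.f 0 = ((μ : F) * μ)⁻¹ • D.f 0) ∧
      ∃ β γ : F, γ ≠ 0 ∧ mat Q y *ᵥ D.e 0 = β • D.e 0 + γ • D.f k := by
  have := Fintype.ofFinite F
  have P0 := D.hP 0 k h0 hk (Ne.symm hk0)
  have P : Pair4 Q (D.e 0) (D.f 0) (D.f k) (D.e k) :=
    ⟨P0.qa, P0.qa', P0.qb', P0.qb, P0.aa', by rw [QuadraticMap.polar_comm]; exact P0.bb', P0.ab', P0.ab,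
      P0.a'b', P0.a'b⟩
  by_cases hs : (μ : F) * μ = 1
  · obtain ⟨y, hy, ⟨β, γ, hγ, he⟩, hfix, N, hN, hyN⟩ := exists_mix hQ hn P
    exact ⟨y, hy, fun x a b c d => hfix x a b d c, ⟨N, hN, hyN⟩, Or.inl hs, β, γ, hγ, he⟩
  obtain ⟨t, ht, t1, t2, t3⟩ := exists_dil hQ P.qa P.qa' P.aa' μ.ne_zero
  obtain ⟨l, hl, l1, l2, l3, l4, l5⟩ := exists_root hQ hn P.symm 1
  have tb : mat Q t *ᵥ D.f k = D.f k := t3 _ P.ab P.a'b
  have tb' : mat Q t *ᵥ D.e k = D.e k := t3 _ P.ab' P.a'b'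
  have htN : t ^ (Fintype.card F - 1) = 1 := by
    refine P.ext ?_ ?_ ?_ ?_ fun x a b _ _ => ?_ <;> rw [mat_one]
    · rw [mat_pow_eigen t1, mul_pow, FiniteField.pow_card_sub_one_eq_one _ μ.ne_zero, one_mul, one_smul]
    · rw [mat_pow_eigen t2, inv_pow, mul_pow, FiniteField.pow_card_sub_one_eq_one _ μ.ne_zero, one_mul,
        inv_one, one_smul]
    · rw [mat_pow_eigen (s := 1) (by rw [one_smul]; exact tb), one_pow, one_smul]
    · rw [mat_pow_eigen (s := 1) (by rw [one_smul]; exact tb'), one_pow, one_smul]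
    · rw [mat_pow_eigen (s := 1) (by rw [one_smul]; exact t3 x a b), one_pow, one_smul]
  refine ⟨l * t * l⁻¹, mul_mem (mul_mem hl ht) (inv_mem hl), fun x a b c d => ?_,
    ⟨Fintype.card F - 1, ?_, ?_⟩, Or.inr ?_, ((μ : F) * μ), 1 - (μ : F) * μ, sub_ne_zero.2 (Ne.symm hs), ?_⟩
  · rw [mat_mul, mat_mul, mat_inv_of (l5 x d b), t3 x a b, l5 x d b]
  · rw [Nat.cast_sub Fintype.card_pos, FiniteField.cast_card_eq_zero, zero_sub, Nat.cast_one]
    exact neg_ne_zero.2 one_ne_zero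
  · rw [conj_pow, htN, mul_one, mul_inv_cancel]
  · rw [mat_mul, mat_mul, mat_inv_of l4, t2, Matrix.mulVec_smul, l4]
  · have hli : mat Q l⁻¹ *ᵥ D.e 0 = D.e 0 + D.f k :=
      mat_inv_of (by rw [Matrix.mulVec_add, l2, l1, one_smul, sub_add_cancel])
    rw [mat_mul, mat_mul, hli, Matrix.mulVec_add, t1, tb, Matrix.mulVec_add, Matrix.mulVec_smul, l2, l1]
    module

/-- The torus element of the first pair. -/
theorem exists_torus (hm : 2 ≤ m) {μ : Fˣ} :
    ∃ y ∈ Cfsg.Omega F (⇑Q), (∀ x, B (D.e 0) x = 0 → B (D.f 0) x = 0 → mat Q y *ᵥ x = x) ∧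
      (∃ N : ℕ, (N : F) ≠ 0 ∧ y ^ N = 1) ∧
      mat Q y *ᵥ D.f 0 = ((μ : F) * μ)⁻¹ • D.f 0 := by
  have := Fintype.ofFinite F
  have P := D.hP 0 1 (by omega) (by omega) (by omega)
  obtain ⟨t, ht, t1, t2, t3⟩ := exists_dil hQ P.qa P.qa' P.aa' μ.ne_zero
  refine ⟨t, ht, t3, ⟨Fintype.card F - 1, ?_, ?_⟩, t2⟩
  · rw [Nat.cast_sub Fintype.card_pos, FiniteField.cast_card_eq_zero, zero_sub, Nat.cast_one]
    exact neg_ne_zero.2 one_ne_zero
  · refine P.ext ?_ ?_ ?_ ?_ fun x a b _ _ => ?_ <;> rw [mat_one]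
    · rw [mat_pow_eigen t1, mul_pow, FiniteField.pow_card_sub_one_eq_one _ μ.ne_zero, one_mul, one_smul]
    · rw [mat_pow_eigen t2, inv_pow, mul_pow, FiniteField.pow_card_sub_one_eq_one _ μ.ne_zero, one_mul,
        inv_one, one_smul]
    · rw [mat_pow_eigen (s := 1) (by rw [one_smul]; exact t3 _ P.ab P.a'b), one_pow, one_smul]
    · rw [mat_pow_eigen (s := 1) (by rw [one_smul]; exact t3 _ P.ab' P.a'b'), one_pow, one_smul]
    · rw [mat_pow_eigen (s := 1) (by rw [one_smul]; exact t3 x a b), one_pow, one_smul]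

/-- The centre of the root groups of a member gives `Ω`. -/
theorem omega_le_of_dirs (hm : 2 ≤ m) {j : ℕ} (hj1 : 1 ≤ j) (hj : j < m) {c : Cfsg.isometryGroup F (⇑Q)} (hc : c ∈ K)
    (hc1 : ∀ i, i + 1 < m → mat Q c *ᵥ D.e i = D.e (i + 1) ∧ mat Q c *ᵥ D.f i = D.f (i + 1))
    (hc2 : ∃ a : F, a ≠ 0 ∧ mat Q c *ᵥ D.e (m - 1) = a • D.f 0)
    (hroot : ∀ i < m, Rt K (D.e i) (D.al (i + 1)) ∧ Rt K (D.f i) (D.al (m + i + 1)))
    (h0 : D.α ∈ dirs K (D.e j) (D.hqe j hj)) (h1 : D.r D.α ∈ dirs K (D.e j) (D.hqe j hj)) :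
    Cfsg.Omega F (⇑Q) ≤ K := by
  classical
  set Z := dirs K (D.e j) (D.hqe j hj)
  have hA : ∀ x, (∀ i < m, B (D.e i) x = 0 ∧ B (D.f i) x = 0) → x ∈ Z := fun x hx => by
    refine Submodule.span_le.2 ?_ (D.hspan x hx)
    rintro z (rfl | rfl)
    · exact h0
    · exact h1
  -- decomposition
  have hdec : ∀ x : ι → F, ∃ y, (∀ i < m, B (D.e i) y = 0 ∧ B (D.f i) y = 0) ∧
      x = ∑ i ∈ Finset.range m, (B (D.f i) x • D.e i + B (D.e i) x • D.f i) + y := by
    intro x
    refine ⟨x - ∑ i ∈ Finset.range m, (B (D.f i) x • D.e i + B (D.e i) x • D.f i), fun l hl => ?_,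
      (add_sub_cancel _ _).symm⟩
    have hsum : ∀ (p : ι → F) (g : ℕ → ι → F),
        B p (∑ i ∈ Finset.range m, g i) = ∑ i ∈ Finset.range m, B p (g i) :=
      fun p g => map_sum (QuadraticMap.polarBilin Q p) g _
    have hp := D.hef l hl
    constructor <;>
      rw [QuadraticMap.polar_sub_right, hsum, Finset.sum_eq_single l]
    · rw [QuadraticMap.polar_add_right, QuadraticMap.polar_smul_right, QuadraticMap.polar_smul_right, hp,
        polar_self_zero (D.hqe l hl)]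
      simp
    · intro i hi hil
      have P := D.perp_f hl (Finset.mem_range.1 hi) (Ne.symm hil)
      simp [QuadraticMap.polar_add_right, QuadraticMap.polar_smul_right, P.1, P.2.1]
    · exact fun h => absurd (Finset.mem_range.2 hl) h
    · rw [QuadraticMap.polar_add_right, QuadraticMap.polar_smul_right, QuadraticMap.polar_smul_right,
        QuadraticMap.polar_comm (⇑Q) (D.f l) (D.e l), hp, polar_self_zero (D.hqf l hl)]
      simp
    · intro i hi hil
      have P := D.perp_f hl (Finset.mem_range.1 hi) (Ne.symm hil)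
      simp [QuadraticMap.polar_add_right, QuadraticMap.polar_smul_right, P.2.2.1, P.2.2.2]
    · exact fun h => absurd (Finset.mem_range.2 hl) h
  -- the other members
  have hmove : ∀ (p a : ι → F), Q p = 0 → B p (D.e j) = 0 → a ≠ 0 →
      (∀ i < m, B (D.e i) a = 0 ∧ B (D.f i) a = 0) → B p D.α = 0 → B p (D.r D.α) = 0 → Rt K p a → p ∈ Z := by
    intro p a hp hpj ha0 ha hpα hpr hR
    obtain ⟨z, hz, hpz, haz⟩ : ∃ z, z ∈ Z ∧ B p z = 0 ∧ B a z ≠ 0 := by
      by_contra hh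
      push Not at hh
      refine ha0 (hQ.1 a fun x => ?_)
      obtain ⟨y, hy, hx⟩ := hdec x
      have e1 : B a (∑ i ∈ Finset.range m, (B (D.f i) x • D.e i + B (D.e i) x • D.f i)) = 0 := by
        rw [show B a (∑ i ∈ Finset.range m, (B (D.f i) x • D.e i + B (D.e i) x • D.f i)) =
          ∑ i ∈ Finset.range m, B a (B (D.f i) x • D.e i + B (D.e i) x • D.f i) from
            map_sum (QuadraticMap.polarBilin Q a) _ _]
        refine Finset.sum_eq_zero fun i hi => ?_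
        have := ha i (Finset.mem_range.1 hi)
        simp [QuadraticMap.polar_add_right, QuadraticMap.polar_smul_right, QuadraticMap.polar_comm (⇑Q) a (D.e i),
          QuadraticMap.polar_comm (⇑Q) a (D.f i), this.1, this.2]
      show B a x = 0
      rw [hx, QuadraticMap.polar_add_right, e1, zero_add]
      obtain ⟨c0, c1, rfl⟩ := Submodule.mem_span_pair.1 (D.hspan y hy)
      rw [QuadraticMap.polar_add_right, QuadraticMap.polar_smul_right, QuadraticMap.polar_smul_right,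
        hh _ h0 hpα, show B a (D.α - ((Q D.v)⁻¹ * B D.v D.α) • D.v) = 0 from hh _ h1 hpr, smul_zero, smul_zero, add_zero]
    have h := dirs_move hz (hR 1) hpj (by
      rw [one_smul, QuadraticMap.polar_comm]; exact (ha j hj).1)
    simp only [one_smul, hpz, zero_smul, zero_add, mul_zero, sub_zero] at h
    exact (Submodule.smul_mem_iff _ (neg_ne_zero.2 haz)).1 h
  have hαr : ∀ i < m, (B (D.e i) D.α = 0 ∧ B (D.f i) D.α = 0) ∧ (B (D.e i) (D.r D.α) = 0 ∧ B (D.f i) (D.r D.α) = 0) :=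
    fun i hi => ⟨D.hαP i hi, by simpa [al] using D.al_perp 1 i hi⟩
  have hall : ∀ z, B (D.e j) z = 0 → z ∈ Z := by
    intro z hz
    obtain ⟨y, hy, e⟩ := hdec z
    rw [e]
    refine Z.add_mem (Z.sum_mem fun i hi => ?_) (hA y hy)
    have hi' := Finset.mem_range.1 hi
    rcases eq_or_ne i j with rfl | hij
    · rw [hz, zero_smul, add_zero]
      exact Z.smul_mem _ (self_mem_dirs _)
    · have P := D.perp_f hi' hj hij
      exact Z.add_mem (Z.smul_mem _ (hmove _ _ (D.hqe i hi') P.1 (D.al_ne _) (D.al_perp _)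
          (hαr i hi').1.1 (hαr i hi').2.1 (hroot i hi').1))
        (Z.smul_mem _ (hmove _ _ (D.hqf i hi') P.2.2.1 (D.al_ne _) (D.al_perp _)
          (hαr i hi').1.2 (hαr i hi').2.2 (hroot i hi').2))
  have hej : D.e j ∈ sCentres Q K := mem_centres (D.hqe j hj) hall
  have he : ∀ d, j + d < m → D.e (j + d) ∈ sCentres Q K := by
    intro d
    induction d with
    | zero => exact fun _ => hej
    | succ d ih => intro hd; rw [← Nat.add_assoc, ← (hc1 (j + d) hd).1]; exact sCentres_map (ih (by omega)) hc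
  obtain ⟨a, ha, hca⟩ := hc2
  have hf0 : D.f 0 ∈ sCentres Q K := by
    have h := sCentres_map (he (m - 1 - j) (by omega)) hc
    rw [show j + (m - 1 - j) = m - 1 by omega, hca] at h
    have := sCentres_smul h a⁻¹
    rwa [smul_smul, inv_mul_cancel₀ ha, one_smul] at this
  have hfj : ∀ d, d < m → D.f d ∈ sCentres Q K := by
    intro d
    induction d with
    | zero => exact fun _ => hf0
    | succ d ih => intro hd; rw [← (hc1 d hd).2]; exact sCentres_map (ih (by omega)) hc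
  exact omega_le hQ hn hej (hfj j hj) (by rw [D.hef j hj]; exact one_ne_zero)

/-- Two elements generate `Ω`. -/
theorem two_gen (hm : 2 ≤ m)
    (hcase : (D.r D.α = -D.α ∧ 2 * Q D.α ≠ 0) ∨ (3 ≤ m ∧ (2 * Q D.α ≠ 0 ∨ B D.α (D.r D.α) ≠ 0))) :
    ∃ a b : Cfsg.isometryGroup F (⇑Q), Subgroup.closure {a, b} = Cfsg.Omega F (⇑Q) := by
  classical
  have := Fintype.ofFinite F
  obtain ⟨μ, hμ⟩ := IsCyclic.exists_generator (α := Fˣ)
  obtain ⟨k, hk⟩ : ∃ k, k = if Odd m then 2 else 3 := ⟨_, rfl⟩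
  have hkm : 3 ≤ m → k < m ∧ k ≠ 0 ∧ k ≠ 1 := fun h => by
    rw [hk]
    split_ifs with ho
    · omega
    · rw [Nat.not_odd_iff_even] at ho
      obtain ⟨d, hd⟩ := ho
      omega
  -- the first generator
  obtain ⟨y, hy, hyfix, ⟨N, hN, hyN⟩, hscale, hmix⟩ : ∃ y ∈ Cfsg.Omega F (⇑Q),
      (∀ x, B (D.e 0) x = 0 → B (D.f 0) x = 0 → (3 ≤ m → B (D.e k) x = 0 ∧ B (D.f k) x = 0) →
        mat Q y *ᵥ x = x) ∧
      (∃ N : ℕ, (N : F) ≠ 0 ∧ y ^ N = 1) ∧
      ((μ : F) * μ = 1 ∨ mat Q y *ᵥ D.f 0 = ((μ : F) * μ)⁻¹ • D.f 0) ∧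
      (3 ≤ m → ∃ β γ : F, γ ≠ 0 ∧ mat Q y *ᵥ D.e 0 = β • D.e 0 + γ • D.f k) := by
    by_cases h3 : 3 ≤ m
    · obtain ⟨y, hy, h1, h2, h4, h5⟩ := D.exists_mixer hQ hn (k := k) (μ := μ) (by omega) (hkm h3).1 (hkm h3).2.1
      exact ⟨y, hy, fun x a b c => h1 x a b (c h3).1 (c h3).2, h2, h4, fun _ => h5⟩
    · obtain ⟨y, hy, h1, h2, h4⟩ := D.exists_torus hQ hn (μ := μ) hm
      exact ⟨y, hy, fun x a b _ => h1 x a b, h2, Or.inr h4, fun h => absurd h h3⟩
  obtain ⟨c, hcΩ, hc1, ⟨ca, cb, hca, hcb, hce, hcf⟩, hcA⟩ := D.exists_step hQ hn hm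
  have h1m : 1 < m := by omega
  have hyA : ∀ n, mat Q y *ᵥ D.al n = D.al n := fun n =>
    hyfix _ (D.al_perp n 0 (by omega)).1 (D.al_perp n 0 (by omega)).2 fun h => D.al_perp n k (hkm h).1
  have hye1 : mat Q y *ᵥ D.e 1 = D.e 1 := by
    refine hyfix _ (D.perp_f (by omega) h1m (by omega)).1 (D.perp_f (by omega) h1m (by omega)).2.2.1 fun h => ?_
    have P := D.perp_f (hkm h).1 h1m (hkm h).2.2
    exact ⟨P.1, P.2.2.1⟩
  set T := siegelG Q (D.hqe 1 h1m) (D.hαP 1 h1m).1 with hT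
  refine ⟨y * T, c, le_antisymm ((Subgroup.closure_le _).2 ?_) ?_⟩
  · rintro g (rfl | rfl)
    · exact mul_mem hy (siegelG_mem_omega Q hQ hn _ _)
    · exact hcΩ
  set K := Subgroup.closure ({y * T, c} : Set (Cfsg.isometryGroup F (⇑Q)))
  have haK : y * T ∈ K := Subgroup.subset_closure (Or.inl rfl)
  have hcK : c ∈ K := Subgroup.subset_closure (Or.inr rfl)
  have hal0 : D.al 0 = D.α := by simp [al]
  -- separate the two factors
  have hcomm : Commute y T := by
    have h := siegelG_conj Q y (D.hqe 1 h1m) (D.hαP 1 h1m).1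
    have e : y * T * y⁻¹ = T := by
      rw [hT, h]
      exact siegelG_congr Q _ _ _ _ fun x => by rw [hye1, ← hal0, hyA]
    exact mul_inv_eq_iff_eq_mul.1 e
  have hTK : T ∈ K := by
    have hTn : ∀ n : ℕ, ∃ h, T ^ n = siegelG Q (D.hqe 1 h1m) (z := (n : F) • D.α) h := by
      intro n
      induction n with
      | zero =>
        refine ⟨by rw [QuadraticMap.polar_smul_right, (D.hαP 1 h1m).1, smul_zero], ext_mulVec Q fun x => ?_⟩
        rw [pow_zero, mat_one, mat_siegelG, Nat.cast_zero, zero_smul, siegel_zero]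
      | succ n ih =>
        obtain ⟨h, e⟩ := ih
        refine ⟨by rw [QuadraticMap.polar_smul_right, (D.hαP 1 h1m).1, smul_zero], ?_⟩
        rw [pow_succ, e, hT, siegelG_mul]
        refine siegelG_congr Q _ _ _ _ fun x => ?_
        rw [Nat.cast_succ, add_smul, one_smul]
    have hM : ((N ^ (Fintype.card F - 1) : ℕ) : F) = 1 := by
      rw [Nat.cast_pow, FiniteField.pow_card_sub_one_eq_one _ hN]
    have hyM : y ^ (N ^ (Fintype.card F - 1)) = 1 := by
      have : 1 < Fintype.card F := Fintype.one_lt_card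
      obtain ⟨d, hd⟩ := dvd_pow_self N (show Fintype.card F - 1 ≠ 0 by omega)
      rw [hd, pow_mul, hyN, one_pow]
    have h := pow_mem haK (N ^ (Fintype.card F - 1))
    obtain ⟨_, e⟩ := hTn (N ^ (Fintype.card F - 1))
    rw [hcomm.mul_pow, hyM, one_mul, e] at h
    convert h using 1
    exact siegelG_congr Q _ _ _ _ fun x => by rw [hM, one_smul]
  have hyK : y ∈ K := (mul_mem_cancel_right hTK).1 haK
  -- the roots along the cycle
  have hsg1 : Sg K (D.e 1) (D.al 2) := ⟨T, hTK, fun x => by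
    rw [show D.al 2 = D.α by simp [al]]; exact mat_siegelG Q _ _ x⟩
  have hsg0 : Sg K (D.e 0) (D.al 1) := by
    have h := hsg1.conj (inv_mem hcK)
    rwa [mat_inv_of (hc1 0 h1m).1, mat_inv_of (hcA 1)] at h
  have hsge : ∀ i < m, Sg K (D.e i) (D.al (i + 1)) := by
    intro i
    induction i with
    | zero => exact fun _ => hsg0
    | succ i ih =>
      intro hi
      have h := (ih (by omega)).conj hcK
      rwa [(hc1 i hi).1, hcA] at h
  have hrtf0 : Rt K (D.f 0) (D.al (m + 1)) := by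
    have h := (hsge (m - 1) (by omega)).conj hcK
    rw [hce, hcA, show m - 1 + 1 = m by omega, Sg.smul_left_iff] at h
    have hperp : B (D.f 0) (D.al (m + 1)) = 0 := (D.al_perp _ 0 (by omega)).2
    let A : AddSubgroup F :=
      { carrier := {x | Sg K (D.f 0) (x • (ca • D.al (m + 1)))}
        add_mem' := fun {a b} ha hb => by
          show Sg K _ ((a + b) • _)
          rw [add_smul]
          exact Sg.add (D.hqf 0 (by omega)) (by simp [QuadraticMap.polar_smul_right, hperp])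
            (by simp [QuadraticMap.polar_smul_right, hperp]) ha hb
        zero_mem' := by show Sg K _ ((0 : F) • _); rw [zero_smul]; exact Sg.zero _
        neg_mem' := fun {a} ha => by
          show Sg K _ (-a • _)
          rw [neg_smul]
          exact Sg.neg (D.hqf 0 (by omega)) (by simp [QuadraticMap.polar_smul_right, hperp]) ha }
    have hA : A = ⊤ := by
      refine addSubgroup_eq_top (k := μ⁻¹) (fun x => by rw [Subgroup.zpowers_inv]; exact hμ x) fun j => ?_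
      rcases hscale with hs | hs
      · show Sg K _ _
        rw [Units.val_inv_eq_inv_val, pow_mul, inv_pow, pow_two, hs, inv_one, one_pow, one_smul]
        exact h
      · have h2 := h.conj (pow_mem hyK j)
        rw [mat_pow_eigen hs, Matrix.mulVec_smul, mat_pow_eigen (s := 1) (by rw [one_smul]; exact hyA _), one_pow,
          one_smul, Sg.smul_left_iff] at h2
        show Sg K _ _
        rwa [Units.val_inv_eq_inv_val, pow_mul, inv_pow, pow_two]
    intro x
    have hx : x / ca ∈ A := hA ▸ AddSubgroup.mem_top _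
    change Sg K _ _ at hx
    rwa [smul_smul, div_mul_cancel₀ _ hca] at hx
  have hrtf : ∀ i < m, Rt K (D.f i) (D.al (m + i + 1)) := by
    intro i
    induction i with
    | zero => exact fun _ => hrtf0
    | succ i ih =>
      intro hi
      have h := (ih (by omega)).conj hcK
      rwa [(hc1 i hi).2, hcA] at h
  have hrte : ∀ i < m, Rt K (D.e i) (D.al (i + 1)) := by
    intro i
    induction i with
    | zero =>
      intro _
      have h := (hrtf (m - 1) (by omega)).conj hcK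
      rw [hcf, hcA] at h
      have h' := h.of_smul_left hcb
      rwa [show D.al (m + (m - 1) + 1 + 1) = D.al (0 + 1) by
        simp only [al, show m + (m - 1) + 1 + 1 = 2 * m + 1 by omega]; simp [Nat.even_add_one]] at h'
    | succ i ih =>
      intro hi
      have h := (ih (by omega)).conj hcK
      rwa [(hc1 i hi).1, hcA] at h
  have hroot := fun i hi => And.intro (hrte i hi) (hrtf i hi)
  have hfin := fun (j : ℕ) (h1 : 1 ≤ j) (hj : j < m) =>
    D.omega_le_of_dirs hQ hn (K := K) hm h1 hj hcK hc1 ⟨ca, hca, hce⟩ hroot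
  -- small facts
  have hdir : ∀ (j : ℕ) (hj : j < m), D.al (j + 1) ∈ dirs K (D.e j) (D.hqe j hj) := fun j hj =>
    ⟨(D.al_perp _ j hj).1, hrte j hj⟩
  have hQr : Q (D.r D.α) = Q D.α := D.Q_r _
  have hal1 : D.al 1 = D.r D.α := by simp [al]
  -- a root of the subgroup moves a direction in the orthogonal part
  have mvA : ∀ {j : ℕ} {hj : j < m} {z p a : ι → F}, z ∈ dirs K (D.e j) (D.hqe j hj) → Rt K p a →
      B p (D.e j) = 0 → B a (D.e j) = 0 → B p z = 0 → B a z ≠ 0 → p ∈ dirs K (D.e j) (D.hqe j hj) := by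
    intro j hj z p a hz hR h1 h2 h3 h4
    have h := dirs_move hz (hR 1) h1 (by rw [one_smul]; exact h2)
    simp only [one_smul, h3, zero_smul, zero_add, mul_zero, sub_zero] at h
    exact (Submodule.smul_mem_iff _ (neg_ne_zero.2 h4)).1 h
  -- a root of the subgroup moves a partner
  have mvP : ∀ {j : ℕ} {hj : j < m} {q p a : ι → F} (_ : q ∈ dirs K (D.e j) (D.hqe j hj)), Rt K p a →
      B p (D.e j) = 0 → B a (D.e j) = 0 → B p q = 1 → B a q = 0 → ∀ x : F,
      x • a - (x * x * Q a) • p ∈ dirs K (D.e j) (D.hqe j hj) := by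
    intro j hj q p a hq hR h1 h2 h3 h4 x
    have h := dirs_move hq (hR x) h1 (by rw [QuadraticMap.polar_smul_left, h2, smul_zero])
    rwa [h3, one_smul, QuadraticMap.polar_smul_left, h4, smul_zero, neg_zero, zero_sub, mul_one,
      QuadraticMap.map_smul, smul_eq_mul, neg_smul, ← sub_eq_add_neg] at h
  have hae : ∀ n i, i < m → B (D.al n) (D.e i) = 0 ∧ B (D.al n) (D.f i) = 0 := fun n i hi =>
    ⟨by rw [QuadraticMap.polar_comm]; exact (D.al_perp n i hi).1,
      by rw [QuadraticMap.polar_comm]; exact (D.al_perp n i hi).2⟩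
  rcases hcase with ⟨hr, -⟩ | ⟨h3, hcase⟩
  · refine hfin 1 le_rfl h1m ?_ ?_
    · simpa [al] using hdir 1 h1m
    · rw [hr]; exact Submodule.neg_mem _ (by simpa [al] using hdir 1 h1m)
  have hα1 : D.α ∈ dirs K (D.e 1) (D.hqe 1 h1m) := by simpa [al] using hdir 1 h1m
  obtain ⟨hkm', hk0, hk1⟩ := hkm h3
  have P10 := D.perp_f (by omega : 0 < m) h1m (by omega)
  have Pk1 := D.perp_f hkm' h1m hk1
  -- the mixed root
  obtain ⟨β, γ, hγ, hye0⟩ := hmix h3
  have hmixed : ∀ {j : ℕ} {hj : j < m} {z : ι → F}, j ≠ 0 → j ≠ k → z ∈ dirs K (D.e j) (D.hqe j hj) →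
      (∀ i < m, B (D.e i) z = 0 ∧ B (D.f i) z = 0) → B (D.al 1) z ≠ 0 →
      D.f k ∈ dirs K (D.e j) (D.hqe j hj) := by
    intro j hj z hj0 hjk hz hzp hne
    have P0 := D.perp_f (by omega : 0 < m) hj (Ne.symm hj0)
    have Pk := D.perp_f hkm' hj (Ne.symm hjk)
    have he0 : D.e 0 ∈ dirs K (D.e j) (D.hqe j hj) :=
      mvA (hj := hj) hz (hrte 0 (by omega)) P0.1 (hae _ j hj).1 (hzp 0 (by omega)).1 hne
    have hR := (hrte 0 (by omega)).conj hyK
    rw [hyA, hye0] at hR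
    have h := mvA (hj := hj) hz hR
      (by simp [QuadraticMap.polar_add_left, QuadraticMap.polar_smul_left, P0.1, Pk.2.2.1])
      (hae _ j hj).1
      (by simp [QuadraticMap.polar_add_left, QuadraticMap.polar_smul_left, (hzp 0 (by omega)).1, (hzp k hkm').2])
      hne
    exact (Submodule.smul_mem_iff _ hγ).1 (by simpa using Submodule.sub_mem _ h (Submodule.smul_mem _ β he0))
  by_cases hαr : B D.α (D.r D.α) = 0
  · -- odd characteristic with orthogonal images
    have hQ2 : 2 * Q D.α ≠ 0 := hcase.resolve_right (fun h => h hαr)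
    have h20 : (2 : F) ≠ 0 := left_ne_zero_of_mul hQ2
    have hself : ∀ n, B (D.al n) (D.al n) ≠ 0 := fun n => by
      rw [polar_self_two, D.Q_al]; exact hQ2
    have both : ∀ {j : ℕ} {hj : j < m} {p a : ι → F}, (x : F) → (a - (Q a) • p ∈ dirs K (D.e j) (D.hqe j hj)) →
        ((-1 : F) • a - ((-1) * (-1) * Q a) • p ∈ dirs K (D.e j) (D.hqe j hj)) →
        a ∈ dirs K (D.e j) (D.hqe j hj) := by
      intro j hj p a _ h1 h2
      have h := Submodule.sub_mem _ h1 h2
      rw [show a - Q a • p - ((-1 : F) • a - ((-1) * (-1) * Q a) • p) = (2 : F) • a by module] at h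
      exact (Submodule.smul_mem_iff _ h20).1 h
    by_cases ho : Odd m
    · have hk2 : k = 2 := by rw [hk, if_pos ho]
      have hfk : D.al (m + k + 1) = D.α := by
        rw [al, if_pos]; rw [hk2]; obtain ⟨d, rfl⟩ := ho; exact ⟨d + 2, by omega⟩
      have hek : D.al (k + 1) = D.r D.α := by rw [hk2]; simp [al, Nat.even_iff]
      have hfkd : D.f k ∈ dirs K (D.e 1) (D.hqe 1 h1m) :=
        mvA (hj := h1m) hα1 (hrtf k hkm') Pk1.2.2.1 (hae _ 1 h1m).1 (D.hαP k hkm').2
          (by rw [hfk]; simpa [hal0] using hself 0)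
      refine hfin 1 le_rfl h1m hα1 (hek ▸ both (hj := h1m) 1 ?_ ?_ (p := D.e k))
      · simpa using mvP (hj := h1m) hfkd (hrte k hkm') Pk1.1 (hae _ 1 h1m).1 (D.hef k hkm') (hae _ k hkm').2 1
      · exact mvP (hj := h1m) hfkd (hrte k hkm') Pk1.1 (hae _ 1 h1m).1 (D.hef k hkm') (hae _ k hkm').2 (-1)
    · have hk3 : k = 3 := by rw [hk, if_neg ho]
      rw [Nat.not_odd_iff_even] at ho
      have h2m : 2 < m := by omega
      have hek : D.al (k + 1) = D.α := by rw [hk3]; simp [al, Nat.even_iff]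
      have hr2 : D.al (2 + 1) = D.r D.α := by simp [al, Nat.even_iff]
      have hz : D.al (2 + 1) ∈ dirs K (D.e 2) (D.hqe 2 h2m) := hdir 2 h2m
      have hfkd : D.f k ∈ dirs K (D.e 2) (D.hqe 2 h2m) :=
        hmixed (hj := h2m) (by omega) (by omega) hz (D.al_perp _) (by rw [hr2, ← hal1]; exact hself 1)
      have Pk2 := D.perp_f hkm' h2m (by omega)
      refine hfin 2 (by omega) h2m (hek ▸ both (hj := h2m) 1 ?_ ?_ (p := D.e k)) (hr2 ▸ hz)
      · simpa using mvP (hj := h2m) hfkd (hrte k hkm') Pk2.1 (hae _ 2 h2m).1 (D.hef k hkm') (hae _ k hkm').2 1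
      · exact mvP (hj := h2m) hfkd (hrte k hkm') Pk2.1 (hae _ 2 h2m).1 (D.hef k hkm') (hae _ k hkm').2 (-1)
  · -- non-orthogonal images
    have hne : B (D.al 1) D.α ≠ 0 := by rw [hal1, QuadraticMap.polar_comm]; exact hαr
    by_cases ho : Odd m
    · have hk2 : k = 2 := by rw [hk, if_pos ho]
      have hek : D.al (k + 1) = D.r D.α := by rw [hk2]; simp [al, Nat.even_iff]
      have hfkd : D.f k ∈ dirs K (D.e 1) (D.hqe 1 h1m) := hmixed (hj := h1m) one_ne_zero (Ne.symm hk1) hα1 D.hαP hne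
      have hekd : D.e k ∈ dirs K (D.e 1) (D.hqe 1 h1m) :=
        mvA (hj := h1m) hα1 (hrte k hkm') Pk1.1 (hae _ 1 h1m).1 (D.hαP k hkm').1 (by rw [hek, ← hal1]; exact hne)
      refine hfin 1 le_rfl h1m hα1 ?_
      have h := mvP (hj := h1m) hfkd (hrte k hkm') Pk1.1 (hae _ 1 h1m).1 (D.hef k hkm') (hae _ k hkm').2 1
      rw [hek, one_smul] at h
      simpa using Submodule.add_mem _ h (Submodule.smul_mem _ (1 * 1 * Q (D.r D.α)) hekd)
    · rw [Nat.not_odd_iff_even] at ho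
      have h0m : 0 < m := by omega
      have hf0 : D.al (m + 0 + 1) = D.r D.α := by
        rw [al, if_neg]; simpa [Nat.even_add_one] using ho
      have he0d : D.e 0 ∈ dirs K (D.e 1) (D.hqe 1 h1m) :=
        mvA (hj := h1m) hα1 (hrte 0 h0m) P10.1 (hae _ 1 h1m).1 (D.hαP 0 h0m).1 hne
      have hf0d : D.f 0 ∈ dirs K (D.e 1) (D.hqe 1 h1m) :=
        mvA (hj := h1m) hα1 (hrtf 0 h0m) P10.2.2.1 (hae _ 1 h1m).1 (D.hαP 0 h0m).2 (by rw [hf0, ← hal1]; exact hne)
      refine hfin 1 le_rfl h1m hα1 ?_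
      have h := mvP (hj := h1m) he0d (hrtf 0 h0m) P10.2.2.1 (hae _ 1 h1m).1
        (by rw [QuadraticMap.polar_comm]; exact D.hef 0 h0m) (hae _ 0 h0m).1 1
      rw [hf0, one_smul] at h
      simpa using Submodule.add_mem _ h (Submodule.smul_mem _ (1 * 1 * Q (D.r D.α)) hf0d)

end Flip

end Cfsg.Lib.OrthTwoGen
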