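import Cfsg.Agent.Known.OrthTwoGen.Main
import Cfsg.Agent.Classical.Orth.StdForms

/-! # The standard forms in the shape needed for two generators -/

set_option autoImplicit false
set_option linter.style.haveILetI false

namespace Cfsg.Lib.OrthTwoGen

open Matrix Cfsg.Lib.Classical Cfsg.Lib.Classical.Refl Cfsg.Lib.Classical.HypQuad

universe u

variable {F : Type u} [Field F]

theorem pomega_two_gen {ι : Type} [Fintype ι] [DecidableEq ι] (Q : QuadraticForm F (ι → F))
    (h : ∃ a b : Cfsg.isometryGroup F (⇑Q), Subgroup.closure {a, b} = Cfsg.Omega F (⇑Q)) :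
    ∃ a b : Cfsg.POmega F (⇑Q), Subgroup.closure ({a, b} : Set (Cfsg.POmega F (⇑Q))) = ⊤ := by
  obtain ⟨a, b, h⟩ := h
  have ha : a ∈ Cfsg.Omega F (⇑Q) := h ▸ Subgroup.subset_closure (Or.inl rfl)
  have hb : b ∈ Cfsg.Omega F (⇑Q) := h ▸ Subgroup.subset_closure (Or.inr rfl)
  refine ⟨QuotientGroup.mk ⟨a, ha⟩, QuotientGroup.mk ⟨b, hb⟩, ?_⟩
  have h1 : Subgroup.closure ({⟨a, ha⟩, ⟨b, hb⟩} : Set (Cfsg.Omega F (⇑Q))) = ⊤ := by
    refine Subgroup.map_injective (Cfsg.Omega F (⇑Q)).subtype_injective ?_
    rw [MonoidHom.map_closure, Set.image_pair, ← MonoidHom.range_eq_map, Subgroup.range_subtype]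
    exact h
  have h2 := congrArg (Subgroup.map (QuotientGroup.mk' (Subgroup.center (Cfsg.Omega F (⇑Q))))) h1
  rw [MonoidHom.map_closure, Set.image_pair,
    Subgroup.map_top_of_surjective _ (QuotientGroup.mk'_surjective _)] at h2
  exact h2

section Odd

variable (m : ℕ)

theorem polar_odd (x y : Unit ⊕ (Fin m ⊕ Fin m) → F) :
    QuadraticMap.polar (⇑(oddForm m F)) x y = 2 * x (Sum.inl ()) * y (Sum.inl ()) +
      ∑ i, (x (Sum.inr (Sum.inl i)) * y (Sum.inr (Sum.inr i)) +
        y (Sum.inr (Sum.inl i)) * x (Sum.inr (Sum.inr i))) := by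
  simp only [QuadraticMap.polar, oddForm_coe, Cfsg.quadFormOdd, Pi.add_apply, add_mul, mul_add,
    Finset.sum_add_distrib]
  ring

/-- Basis vectors indexed by the natural numbers. -/
def coordVec {κ : Type} [DecidableEq κ] {k : ℕ} (j : Fin k → κ) (i : ℕ) : κ → F :=
  if h : i < k then Pi.single (j ⟨i, h⟩) 1 else 0

theorem coordVec_lt {κ : Type} [DecidableEq κ] {k : ℕ} (j : Fin k → κ) {i : ℕ} (h : i < k) :
    (coordVec j i : κ → F) = Pi.single (j ⟨i, h⟩) 1 := dif_pos h

theorem odd_two_gen [Finite F] (h2 : (2 : F) ≠ 0) (hm : 2 ≤ m) :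
    ∃ a b : Cfsg.POmega F (⇑(oddForm m F)), Subgroup.closure ({a, b} : Set (Cfsg.POmega F (⇑(oddForm m F)))) = ⊤ := by
  let v : Unit ⊕ (Fin m ⊕ Fin m) → F := Pi.single (Sum.inl ()) 1
  have hQv : oddForm m F v = 1 := by simp [oddForm_coe, Cfsg.quadFormOdd, v]
  have hvv : QuadraticMap.polar (⇑(oddForm m F)) v v = 2 := by rw [polar_self_two, hQv, mul_one]
  let D : Flip (oddForm m F) m :=
    { e := coordVec fun i => Sum.inr (Sum.inl i)
      f := coordVec fun i => Sum.inr (Sum.inr i)
      hqe := fun i h => by simp [coordVec_lt _ h, oddForm_coe, Cfsg.quadFormOdd, Pi.single_apply]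
      hqf := fun i h => by simp [coordVec_lt _ h, oddForm_coe, Cfsg.quadFormOdd, Pi.single_apply]
      hef := fun i h => by simp [coordVec_lt _ h, polar_odd, Pi.single_apply]
      hP := fun i k hi hk hik => by
        have hik' : (⟨i, hi⟩ : Fin m) ≠ ⟨k, hk⟩ := fun e => hik (congrArg Fin.val e)
        constructor <;> first
          | (simp [coordVec_lt _ hi, coordVec_lt _ hk, polar_odd, Pi.single_apply]; done)
          | (simp [coordVec_lt _ hi, coordVec_lt _ hk, polar_odd, Pi.single_apply, hik', Ne.symm hik']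
             done)
          | simp [coordVec_lt _ hi, coordVec_lt _ hk, oddForm_coe, Cfsg.quadFormOdd, Pi.single_apply]
      v := v
      α := v
      hv := by rw [hQv]; exact one_ne_zero
      hvP := fun i h => by simp [coordVec_lt _ h, polar_odd, Pi.single_apply, v]
      hαP := fun i h => by simp [coordVec_lt _ h, polar_odd, Pi.single_apply, v]
      hα := fun e => by simpa [v] using congrFun e (Sum.inl ())
      hspan := fun x hx => by
        refine Submodule.mem_span_pair.2 ⟨x (Sum.inl ()), 0, ?_⟩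
        funext j
        rcases j with _ | i | i
        · simp [v]
        · have h := (hx i i.isLt).2
          simp [coordVec_lt _ i.isLt, polar_odd, Pi.single_apply] at h
          simp [v, h]
        · have h := (hx i i.isLt).1
          simp [coordVec_lt _ i.isLt, polar_odd, Pi.single_apply] at h
          simp [v, h] }
  refine pomega_two_gen _ (D.two_gen (oddForm_nondegenerate h2 m) ?_ hm (Or.inl ⟨?_, ?_⟩))
  · simp only [Fintype.card_sum, Fintype.card_fin, Fintype.card_unit]; omega
  · show v - ((oddForm m F v)⁻¹ * QuadraticMap.polar (⇑(oddForm m F)) v v) • v = -v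
    rw [hQv, hvv]
    module
  · show 2 * oddForm m F v ≠ 0
    rw [hQv, mul_one]; exact h2

end Odd

section Plus

variable (m : ℕ)

theorem polar_plus (x y : Fin m ⊕ Fin m → F) :
    QuadraticMap.polar (⇑(plusForm m F)) x y =
      ∑ i, (x (Sum.inl i) * y (Sum.inr i) + y (Sum.inl i) * x (Sum.inr i)) := by
  simp only [QuadraticMap.polar, plusForm_apply, Cfsg.quadFormPlus, Pi.add_apply, add_mul, mul_add,
    Finset.sum_add_distrib]
  ring

theorem plus_two_gen [Finite F] (hm : 3 ≤ m) :
    ∃ a b : Cfsg.POmega F (⇑(plusForm (m + 1) F)),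
      Subgroup.closure ({a, b} : Set (Cfsg.POmega F (⇑(plusForm (m + 1) F)))) = ⊤ := by
  let p : Fin (m + 1) ⊕ Fin (m + 1) → F := Pi.single (Sum.inl (Fin.last m)) 1
  let p' : Fin (m + 1) ⊕ Fin (m + 1) → F := Pi.single (Sum.inr (Fin.last m)) 1
  let v := p + p'
  have hQv : plusForm (m + 1) F v = 1 := by
    simp [plusForm_apply, Cfsg.quadFormPlus, v, p, p', Pi.single_apply]
  have hvp : QuadraticMap.polar (⇑(plusForm (m + 1) F)) v p = 1 := by
    rw [polar_plus]; simp [v, p, p', Pi.single_apply]
  have hne : ∀ {i : ℕ} (h : i < m), (⟨i, Nat.lt_succ_of_lt h⟩ : Fin (m + 1)) ≠ Fin.last m := fun h e =>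
    Nat.ne_of_lt h (congrArg Fin.val e)
  let D : Flip (plusForm (m + 1) F) m :=
    { e := coordVec fun i : Fin m => Sum.inl i.castSucc
      f := coordVec fun i : Fin m => Sum.inr i.castSucc
      hqe := fun i h => by simp [coordVec_lt _ h, plusForm_apply, Cfsg.quadFormPlus, Pi.single_apply]
      hqf := fun i h => by simp [coordVec_lt _ h, plusForm_apply, Cfsg.quadFormPlus, Pi.single_apply]
      hef := fun i h => by simp [coordVec_lt _ h, polar_plus, Pi.single_apply]
      hP := fun i k hi hk hik => by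
        have hik' : (⟨i, hi⟩ : Fin m) ≠ ⟨k, hk⟩ := fun e => hik (congrArg Fin.val e)
        constructor <;> first
          | (simp [coordVec_lt _ hi, coordVec_lt _ hk, polar_plus, Pi.single_apply]; done)
          | (simp [coordVec_lt _ hi, coordVec_lt _ hk, polar_plus, Pi.single_apply, Fin.mk.injEq, hik,
              Ne.symm hik]
             done)
          | simp [coordVec_lt _ hi, coordVec_lt _ hk, plusForm_apply, Cfsg.quadFormPlus, Pi.single_apply]
      v := v
      α := p
      hv := by rw [hQv]; exact one_ne_zero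
      hvP := fun i h => by
        simp [coordVec_lt _ h, polar_plus, Pi.single_apply, v, p, p', hne h, Ne.symm (hne h)]
      hαP := fun i h => by
        simp [coordVec_lt _ h, polar_plus, Pi.single_apply, p, hne h, Ne.symm (hne h)]
      hα := fun e => by simpa [p] using congrFun e (Sum.inl (Fin.last m))
      hspan := fun x hx => by
        refine Submodule.mem_span_pair.2 ⟨x (Sum.inl (Fin.last m)), -x (Sum.inr (Fin.last m)), ?_⟩
        rw [hQv, hvp]
        funext j
        rcases j with i | i <;> refine Fin.lastCases ?_ (fun i => ?_) i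
        · simp [v, p, p']
        · have h := (hx i i.isLt).2
          simp [coordVec_lt _ i.isLt, polar_plus, Pi.single_apply] at h
          simp [v, p, p', h, (Fin.castSucc_lt_last i).ne]
        · simp [v, p, p']
        · have h := (hx i i.isLt).1
          simp [coordVec_lt _ i.isLt, polar_plus, Pi.single_apply] at h
          simp [v, p, p', h, (Fin.castSucc_lt_last i).ne] }
  refine pomega_two_gen _ (D.two_gen (plusForm_nondegenerate (m + 1)) ?_ (by omega) (Or.inr ⟨hm, Or.inr ?_⟩))
  · simp only [Fintype.card_sum, Fintype.card_fin]; omega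
  · show QuadraticMap.polar (⇑(plusForm (m + 1) F)) p
      (p - ((plusForm (m + 1) F v)⁻¹ * QuadraticMap.polar (⇑(plusForm (m + 1) F)) v p) • v) ≠ 0
    rw [hQv, hvp]
    simp [polar_plus, v, p, p', Pi.single_apply]

end Plus

section Minus

variable (m : ℕ) (a b : F)

theorem polar_minus (x y : (Fin m ⊕ Fin m) ⊕ Fin 2 → F) :
    QuadraticMap.polar (⇑(minusForm m F a b)) x y =
      (∑ i, (x (Sum.inl (Sum.inl i)) * y (Sum.inl (Sum.inr i)) +
        y (Sum.inl (Sum.inl i)) * x (Sum.inl (Sum.inr i)))) +
      (2 * x (Sum.inr 0) * y (Sum.inr 0) + a * (x (Sum.inr 0) * y (Sum.inr 1) + x (Sum.inr 1) * y (Sum.inr 0)) +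
        2 * b * x (Sum.inr 1) * y (Sum.inr 1)) := by
  simp only [QuadraticMap.polar, minusForm_coe, Cfsg.quadFormMinus, Pi.add_apply, add_mul, mul_add,
    Finset.sum_add_distrib]
  ring

theorem minus_two_gen [Finite F] (hm : 3 ≤ m)
    (hab : ∀ z₁ z₂ : F, z₁ ^ 2 + a * z₁ * z₂ + b * z₂ ^ 2 = 0 → z₁ = 0 ∧ z₂ = 0) :
    ∃ g h : Cfsg.POmega F (⇑(minusForm m F a b)),
      Subgroup.closure ({g, h} : Set (Cfsg.POmega F (⇑(minusForm m F a b)))) = ⊤ := by
  obtain ⟨s, hs⟩ : ∃ s : F, 2 * s + a ≠ 0 := by
    by_cases ha : a = 0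
    · refine ⟨1, fun e => disc_ne_zero hab ?_⟩
      rw [ha, add_zero, mul_one] at e
      rw [ha]
      linear_combination (2 * b) * e
    · exact ⟨0, by rwa [mul_zero, zero_add]⟩
  let v : (Fin m ⊕ Fin m) ⊕ Fin 2 → F := Pi.single (Sum.inr 0) 1
  let α : (Fin m ⊕ Fin m) ⊕ Fin 2 → F := s • v + Pi.single (Sum.inr 1) 1
  have hQv : minusForm m F a b v = 1 := by simp [minusForm_coe, Cfsg.quadFormMinus, v]
  have hvα : QuadraticMap.polar (⇑(minusForm m F a b)) v α = 2 * s + a := by
    rw [polar_minus]; simp [v, α]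
  have hQα : minusForm m F a b α ≠ 0 := by
    intro e
    simp [minusForm_coe, Cfsg.quadFormMinus, v, α] at e
    exact one_ne_zero (hab s 1 (by linear_combination e)).2
  let D : Flip (minusForm m F a b) m :=
    { e := coordVec fun i => Sum.inl (Sum.inl i)
      f := coordVec fun i => Sum.inl (Sum.inr i)
      hqe := fun i h => by simp [coordVec_lt _ h, minusForm_coe, Cfsg.quadFormMinus, Pi.single_apply]
      hqf := fun i h => by simp [coordVec_lt _ h, minusForm_coe, Cfsg.quadFormMinus, Pi.single_apply]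
      hef := fun i h => by simp [coordVec_lt _ h, polar_minus, Pi.single_apply]
      hP := fun i k hi hk hik => by
        have hik' : (⟨i, hi⟩ : Fin m) ≠ ⟨k, hk⟩ := fun e => hik (congrArg Fin.val e)
        constructor <;> first
          | (simp [coordVec_lt _ hi, coordVec_lt _ hk, polar_minus, Pi.single_apply]; done)
          | (simp [coordVec_lt _ hi, coordVec_lt _ hk, polar_minus, Pi.single_apply, hik', Ne.symm hik']
             done)
          | simp [coordVec_lt _ hi, coordVec_lt _ hk, minusForm_coe, Cfsg.quadFormMinus, Pi.single_apply]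
      v := v
      α := α
      hv := by rw [hQv]; exact one_ne_zero
      hvP := fun i h => by simp [coordVec_lt _ h, polar_minus, Pi.single_apply, v]
      hαP := fun i h => by simp [coordVec_lt _ h, polar_minus, Pi.single_apply, v, α]
      hα := fun e => by simpa [α, v] using congrFun e (Sum.inr 1)
      hspan := fun x hx => by
        refine Submodule.mem_span_pair.2 ⟨x (Sum.inr 1) + (x (Sum.inr 0) - s * x (Sum.inr 1)) / (2 * s + a),
          -((x (Sum.inr 0) - s * x (Sum.inr 1)) / (2 * s + a)), ?_⟩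
        rw [hQv, hvα]
        funext j
        rcases j with (i | i) | i
        · have h := (hx i i.isLt).2
          simp [coordVec_lt _ i.isLt, polar_minus, Pi.single_apply] at h
          simp [v, α, h]
        · have h := (hx i i.isLt).1
          simp [coordVec_lt _ i.isLt, polar_minus, Pi.single_apply] at h
          simp [v, α, h]
        · have key := div_mul_cancel₀ (x (Sum.inr 0) - s * x (Sum.inr 1)) hs
          fin_cases i <;> simp [v, α]
          linear_combination key }
  refine pomega_two_gen _ (D.two_gen (minusForm_nondegenerate' m hab) ?_ (by omega) (Or.inr ⟨hm, ?_⟩))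
  · simp only [Fintype.card_sum, Fintype.card_fin]; omega
  · by_cases h2 : (2 : F) = 0
    · refine Or.inr ?_
      show QuadraticMap.polar (⇑(minusForm m F a b)) α
        (α - ((minusForm m F a b v)⁻¹ * QuadraticMap.polar (⇑(minusForm m F a b)) v α) • v) ≠ 0
      rw [hQv, hvα, QuadraticMap.polar_sub_right, QuadraticMap.polar_smul_right, polar_self_two,
        QuadraticMap.polar_comm (⇑(minusForm m F a b)) α v, hvα, h2, zero_mul, zero_mul, zero_sub, zero_add]
      simp only [inv_one, one_mul, smul_eq_mul, neg_ne_zero]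
      intro e
      apply hs
      rw [h2, zero_mul, zero_add]
      exact mul_self_eq_zero.1 e
    · exact Or.inl (mul_ne_zero h2 hQα)

end Minus

end Cfsg.Lib.OrthTwoGen
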